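/-
The separation property for the action of SL on the lines.
-/
import Cfsg.Agent.Lib.FixSylow.Core
import Cfsg.Agent.Lib.Orthogonal.Matrix
import Mathlib.LinearAlgebra.Dual.Lemmas
import Mathlib.Algebra.CharP.Algebra
import Mathlib.Algebra.CharP.Lemmas

set_option autoImplicit false

namespace Cfsg.Agent.FixSylow

open Module Cfsg.Agent.Orth

variable {F : Type*} [Field F] {V : Type*} [AddCommGroup V] [Module F V]

/-- the stabiliser of the line of e -/
def lineStab {e : V} (he : e ≠ 0) : Subgroup (V ≃ₗ[F] V) where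
  carrier := {g | ∃ c : F, g e = c • e}
  one_mem' := ⟨1, (one_smul F e).symm⟩
  mul_mem' := by
    rintro a b ⟨c, hc⟩ ⟨d, hd⟩
    exact ⟨d * c, by rw [LinearEquiv.mul_apply, hd, map_smul, hc, smul_smul]⟩
  inv_mem' := by
    rintro a ⟨c, hc⟩
    have hc0 : c ≠ 0 := fun h => he (a.injective (by rw [hc, h, zero_smul, map_zero]))
    refine ⟨c⁻¹, a.injective ?_⟩
    rw [show a (a⁻¹ e) = e from a.apply_symm_apply e, map_smul, hc, smul_smul, inv_mul_cancel₀ hc0, one_smul]

theorem conj_mem_lineStab {E : Type*} [Group E] (ρ : E →* (V ≃ₗ[F] V)) {e : V} (he : e ≠ 0) (g x : E) :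
    g⁻¹ * x * g ∈ (lineStab (F := F) he).comap ρ ↔ ∃ c : F, ρ x (ρ g e) = c • ρ g e := by
  rw [Subgroup.mem_comap, map_mul, map_mul, map_inv]
  constructor
  · rintro ⟨c, hc⟩
    refine ⟨c, ?_⟩
    have := congrArg (ρ g) hc
    rwa [LinearEquiv.mul_apply, LinearEquiv.mul_apply, show ρ g ((ρ g)⁻¹ (ρ x (ρ g e))) = ρ x (ρ g e) from
      (ρ g).apply_symm_apply _, map_smul] at this
  · rintro ⟨c, hc⟩
    refine ⟨c, (ρ g).injective ?_⟩
    rw [LinearEquiv.mul_apply, LinearEquiv.mul_apply, show ρ g ((ρ g)⁻¹ (ρ x (ρ g e))) = ρ x (ρ g e) from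
      (ρ g).apply_symm_apply _, hc, map_smul]

theorem conj_u_mem {E : Type*} [Group E] (ρ : E →* (V ≃ₗ[F] V)) {e : V} (he : e ≠ 0) (g g' u : E) {c : F}
    (h : ρ u (ρ g e) = c • ρ g' e) : g'⁻¹ * u * g ∈ (lineStab (F := F) he).comap ρ := by
  refine ⟨c, (ρ g').injective ?_⟩
  rw [map_mul, map_mul, map_inv, LinearEquiv.mul_apply, LinearEquiv.mul_apply,
    show ρ g' ((ρ g')⁻¹ (ρ u (ρ g e))) = ρ u (ρ g e) from (ρ g').apply_symm_apply _, h, map_smul]

theorem exists_dual_one {W : Submodule F V} {x : V} (hx : x ∉ W) :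
    ∃ ψ : Module.Dual F V, (∀ w ∈ W, ψ w = 0) ∧ ψ x = 1 := by
  obtain ⟨φ, hφ, hφW⟩ := Submodule.exists_dual_map_eq_bot_of_notMem hx inferInstance
  refine ⟨(φ x)⁻¹ • φ, fun w hw => ?_, by simp [inv_mul_cancel₀ hφ]⟩
  have : φ w ∈ W.map φ := Submodule.mem_map_of_mem hw
  rw [hφW, Submodule.mem_bot] at this
  simp [this]

/-- A unipotent map of length three is a p-element. -/
theorem unipotent_pow (p : ℕ) [Fact p.Prime] [CharP F p] {g : V ≃ₗ[F] V} (W W' : Submodule F V)
    (h1 : ∀ x, g x - x ∈ W) (h2 : ∀ x ∈ W, g x - x ∈ W') (h3 : ∀ x ∈ W', g x = x) :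
    g ^ p ^ 2 = 1 := by
  refine LinearEquiv.ext fun x => ?_
  rcases subsingleton_or_nontrivial V with hV | hV
  · exact Subsingleton.elim _ _
  obtain ⟨e, he⟩ := exists_ne (0 : V)
  haveI : CharP (Module.End F V) p := charP_of_injective_algebraMap (R := F) (A := Module.End F V) (fun a b hab => by
    have := LinearMap.congr_fun hab e
    simp only [Module.algebraMap_end_apply] at this
    exact smul_left_injective F he this) p
  obtain ⟨N, hN⟩ : ∃ N : Module.End F V, N = (g.toLinearMap : Module.End F V) - 1 := ⟨_, rfl⟩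
  have hN' : ∀ y, N y = g y - y := fun y => by rw [hN]; rfl
  have h0 : N ^ 3 = 0 := LinearMap.ext fun y => by
    rw [pow_succ, pow_succ, pow_one, Module.End.mul_apply, Module.End.mul_apply, hN' (N (N y)), hN' (N y),
      LinearMap.zero_apply, sub_eq_zero]
    exact h3 _ (h2 _ (hN' y ▸ h1 y))
  have hp : 3 ≤ p ^ 2 := le_trans (by norm_num) (Nat.pow_le_pow_left (Fact.out : p.Prime).two_le 2)
  have h4 : ((g.toLinearMap : Module.End F V) - 1) ^ p ^ 2 = 0 := hN ▸ pow_eq_zero_of_le hp h0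
  rw [sub_pow_char_pow_of_commute p 2 (Commute.one_right _), one_pow, sub_eq_zero] at h4
  have h5 : ∀ k : ℕ, ∀ y, (g ^ k) y = ((g.toLinearMap : Module.End F V) ^ k) y := fun k => by
    induction k with
    | zero => exact fun y => rfl
    | succ k ih =>
      intro y
      rw [pow_succ, pow_succ, LinearEquiv.mul_apply, Module.End.mul_apply, ih]
      rfl
  rw [h5, h4]
  rfl

variable {ι : Type} [Fintype ι] [DecidableEq ι]

/-- SL acting on column vectors -/
def slRep (ι : Type) [Fintype ι] [DecidableEq ι] (F : Type*) [Field F] :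
    Matrix.SpecialLinearGroup ι F →* ((ι → F) ≃ₗ[F] (ι → F)) :=
  (glEquiv ι F).toMonoidHom.comp Matrix.SpecialLinearGroup.toGL

theorem slRep_injective : Function.Injective (slRep ι F) := fun a b h =>
  Subtype.ext (congrArg Units.val ((glEquiv ι F).injective h))

theorem exists_slRep (p : ℕ) [Fact p.Prime] [CharP F p] {m : (ι → F) ≃ₗ[F] (ι → F)} {k : ℕ} (hk : m ^ p ^ k = 1) :
    ∃ A, slRep ι F A = m := by
  obtain ⟨g, hg⟩ : ∃ g, g = (glEquiv ι F).symm m := ⟨_, rfl⟩
  have hgk : g ^ p ^ k = 1 := by rw [hg, ← map_pow, hk, map_one]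
  have hd : (g : Matrix ι ι F).det ^ p ^ k = 1 := by
    rw [← Matrix.det_pow, ← Units.val_pow_eq_pow_val, hgk, Units.val_one, Matrix.det_one]
  have hd' : (g : Matrix ι ι F).det = 1 := by
    have h : ((g : Matrix ι ι F).det - 1) ^ p ^ k = 0 := by rw [sub_pow_char_pow, one_pow, hd, sub_self]
    exact sub_eq_zero.1 ((pow_eq_zero_iff (pow_ne_zero _ (Fact.out : p.Prime).ne_zero)).1 h)
  refine ⟨⟨(g : Matrix ι ι F), hd'⟩, ?_⟩
  show glEquiv ι F (Matrix.SpecialLinearGroup.toGL _) = m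
  rw [show Matrix.SpecialLinearGroup.toGL ⟨(g : Matrix ι ι F), hd'⟩ = g from Units.ext rfl, hg,
    MulEquiv.apply_symm_apply]

/-- the transvections with centre e -/
def transvCentre (e : V) : Subgroup (V ≃ₗ[F] V) where
  carrier := {g | ∃ ψ : Module.Dual F V, ψ e = 0 ∧ ∀ x, g x = x + ψ x • e}
  one_mem' := ⟨0, rfl, fun x => by simp⟩
  mul_mem' := by
    rintro a b ⟨ψ, h3, h4⟩ ⟨ψ', k3, k4⟩
    refine ⟨ψ + ψ', by simp [h3, k3], fun x => ?_⟩
    rw [LinearEquiv.mul_apply, k4, h4, map_add, map_smul, h3, smul_zero, add_zero, LinearMap.add_apply, add_smul]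
    abel
  inv_mem' := by
    rintro a ⟨ψ, h3, h4⟩
    refine ⟨-ψ, by simp [h3], fun x => a.injective ?_⟩
    rw [show a (a⁻¹ x) = x from a.apply_symm_apply x, h4, map_add, map_smul, h3, smul_zero, add_zero,
      LinearMap.neg_apply]
    module

theorem exists_transv (p : ℕ) [Fact p.Prime] [CharP F p] {ψ : Module.Dual F (ι → F)} {e : ι → F} (h : ψ e = 0) :
    ∃ A, ∀ x, slRep ι F A x = x + ψ x • e := by
  let T : (ι → F) →ₗ[F] (ι → F) := LinearMap.id + ψ.smulRight e
  have hT : ∀ x, T x = x + ψ x • e := fun x => rfl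
  let m : (ι → F) ≃ₗ[F] (ι → F) :=
    { toLinearMap := T
      invFun := fun x => x - ψ x • e
      left_inv := fun x => by
        simp only [LinearMap.toFun_eq_coe, hT, map_add, map_smul, h, smul_eq_mul, mul_zero, add_zero]
        module
      right_inv := fun x => by
        simp only [LinearMap.toFun_eq_coe, hT, map_sub, map_smul, h, smul_eq_mul, mul_zero, sub_zero]
        module }
  have hm : ∀ x, m x - x = ψ x • e := fun x => by
    show T x - x = _
    rw [hT, add_sub_cancel_left]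
  have hme : ∀ x ∈ Submodule.span F {e}, m x = x := fun x hx => by
    obtain ⟨c, rfl⟩ := Submodule.mem_span_singleton.1 hx
    rw [← sub_eq_zero, hm, map_smul, h, smul_zero, zero_smul]
  obtain ⟨A, hA⟩ := exists_slRep p (m := m) (k := 2) (unipotent_pow p (Submodule.span F {e}) (Submodule.span F {e})
    (fun x => hm x ▸ Submodule.smul_mem _ _ (Submodule.mem_span_singleton_self e))
    (fun x _ => hm x ▸ Submodule.smul_mem _ _ (Submodule.mem_span_singleton_self e)) hme)
  exact ⟨A, fun x => by rw [hA]; exact hT x⟩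

/-- SL on lines -/
theorem sep_sl (p : ℕ) [Fact p.Prime] [CharP F p] {e f : ι → F} (he : e ≠ 0) (hf : f ∉ Submodule.span F {e}) :
    Sep p ((lineStab (F := F) he).comap (slRep ι F)) ((transvCentre (F := F) e).comap (slRep ι F)) := by
  obtain ⟨ρ, hρ⟩ : ∃ ρ, ρ = slRep ι F := ⟨_, rfl⟩
  rw [← hρ]
  have hQ : ∀ x, x ∈ (transvCentre (F := F) e).comap ρ ↔
      ∃ ψ : Module.Dual F (ι → F), ψ e = 0 ∧ ∀ y, ρ x y = y + ψ y • e := fun x => Iff.rfl
  refine ⟨fun htop => ?_, ?_, ?_, ?_, ?_⟩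
  · have hef : e ∉ Submodule.span F {f} := fun h => by
      obtain ⟨c, hc⟩ := Submodule.mem_span_singleton.1 h
      have hc0 : c ≠ 0 := fun h0 => he (by rw [← hc, h0, zero_smul])
      exact hf (Submodule.mem_span_singleton.2 ⟨c⁻¹, by rw [← hc, smul_smul, inv_mul_cancel₀ hc0, one_smul]⟩)
    obtain ⟨φ, hφ, hφe⟩ := exists_dual_one hef
    obtain ⟨A, hA⟩ := exists_transv p (hφ f (Submodule.mem_span_singleton_self f))
    obtain ⟨c, hc⟩ : A ∈ (lineStab (F := F) he).comap ρ := htop ▸ Subgroup.mem_top A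
    rw [hρ, hA, hφe, one_smul] at hc
    exact hf (Submodule.mem_span_singleton.2 ⟨c - 1, by rw [sub_smul, ← hc, one_smul, add_sub_cancel_left]⟩)
  · rintro x ⟨ψ, hψ, hx⟩
    exact ⟨1, by rw [hx, hψ, zero_smul, add_zero, one_smul]⟩
  · rintro ⟨x, ψ, hψ, hx⟩
    refine ⟨2, Subtype.ext ((hρ ▸ slRep_injective : Function.Injective ρ) ?_)⟩
    show ρ (x ^ p ^ 2) = ρ 1
    rw [map_pow, map_one]
    refine unipotent_pow p (Submodule.span F {e}) (Submodule.span F {e})
      (fun y => ?_) (fun y _ => ?_) fun y hy => ?_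
    · rw [hx, add_sub_cancel_left]; exact Submodule.smul_mem _ _ (Submodule.mem_span_singleton_self e)
    · rw [hx, add_sub_cancel_left]; exact Submodule.smul_mem _ _ (Submodule.mem_span_singleton_self e)
    · obtain ⟨c, rfl⟩ := Submodule.mem_span_singleton.1 hy
      rw [hx, map_smul, hψ, smul_zero, zero_smul, add_zero]
  · rintro h ⟨c, hc⟩ x ⟨ψ, hψ, hx⟩
    have hinv : (ρ h).symm e = c⁻¹ • e := by
      have hc0 : c ≠ 0 := fun h0 => he ((ρ h).injective (by rw [hc, h0, zero_smul, map_zero]))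
      refine (ρ h).symm_apply_eq.2 ?_
      rw [map_smul, hc, smul_smul, inv_mul_cancel₀ hc0, one_smul]
    refine (hQ _).2 ⟨c • ψ.comp (ρ h).symm.toLinearMap, ?_, fun y => ?_⟩
    · simp [hinv, hψ]
    · rw [map_mul, map_mul, map_inv, LinearEquiv.mul_apply, LinearEquiv.mul_apply, hx, map_add, map_smul, hc,
        show ρ h ((ρ h)⁻¹ y) = y from (ρ h).apply_symm_apply y, smul_smul]
      simp [mul_comm]
  · intro g g' hgg
    simp only [conj_mem_lineStab] at hgg
    obtain ⟨a, ha⟩ : ∃ a, a = ρ g e := ⟨_, rfl⟩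
    obtain ⟨b, hb⟩ : ∃ b, b = ρ g' e := ⟨_, rfl⟩
    rw [← ha, ← hb] at hgg
    have hb0 : b ≠ 0 := hb ▸ (LinearEquiv.map_ne_zero_iff _).2 he
    have ha0 : a ≠ 0 := ha ▸ (LinearEquiv.map_ne_zero_iff _).2 he
    have hmove : ∀ ψ : Module.Dual F (ι → F), ψ e = 0 → ∃ u ∈ (transvCentre (F := F) e).comap ρ,
        ∀ y, ρ u y = y + ψ y • e := fun ψ hψ => by
      obtain ⟨A, hA⟩ := exists_transv p hψ
      exact ⟨A, (hQ A).2 ⟨ψ, hψ, hρ ▸ hA⟩, hρ ▸ hA⟩
    have hsame : ∀ a b : ι → F, b ≠ 0 →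
        (∀ x ∈ (transvCentre (F := F) e).comap ρ, (∃ c : F, ρ x a = c • a) → ∃ c : F, ρ x b = c • b) →
        a ∈ Submodule.span F {e} → b ∈ Submodule.span F {e} := by
      intro a b hb0 hab hae
      by_contra hbe
      obtain ⟨ψ, hψ, hψb⟩ := exists_dual_one hbe
      obtain ⟨u, hu, hu'⟩ := hmove ψ (hψ e (Submodule.mem_span_singleton_self e))
      obtain ⟨c, hc⟩ := hab u hu ⟨1, by rw [hu', hψ a hae, zero_smul, add_zero, one_smul]⟩
      rw [hu', hψb, one_smul] at hc
      have h1 := congrArg ψ hc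
      rw [map_add, map_smul, hψb, hψ e (Submodule.mem_span_singleton_self e), add_zero, smul_eq_mul, mul_one] at h1
      rw [← h1, one_smul, add_eq_left] at hc
      exact he hc
    by_cases hae : a ∈ Submodule.span F {e}
    · obtain ⟨d, hd⟩ := Submodule.mem_span_singleton.1 (hsame a b hb0 (fun x hx => (hgg x hx).1) hae)
      obtain ⟨c, hc⟩ := Submodule.mem_span_singleton.1 hae
      have hd0 : d ≠ 0 := fun h0 => hb0 (by rw [← hd, h0, zero_smul])
      refine ⟨1, one_mem _, conj_u_mem ρ he g g' 1 (c := c * d⁻¹) ?_⟩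
      rw [← ha, ← hb, map_one, ← hd, smul_smul, mul_assoc, inv_mul_cancel₀ hd0, mul_one, hc]
      rfl
    · have hbe : b ∉ Submodule.span F {e} := fun h => hae (hsame b a ha0 (fun x hx => (hgg x hx).2) h)
      have hspan : b ∈ Submodule.span F {e} ⊔ Submodule.span F {a} := by
        by_contra h
        obtain ⟨ψ, hψ, hψb⟩ := exists_dual_one h
        have h1 := hψ e (Submodule.mem_sup_left (Submodule.mem_span_singleton_self e))
        obtain ⟨u, hu, hu'⟩ := hmove ψ h1
        obtain ⟨c, hc⟩ := (hgg u hu).1 ⟨1, by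
          rw [hu', hψ a (Submodule.mem_sup_right (Submodule.mem_span_singleton_self a)), zero_smul, add_zero,
            one_smul]⟩
        rw [hu', hψb, one_smul] at hc
        have h2 := congrArg ψ hc
        rw [map_add, map_smul, hψb, h1, add_zero, smul_eq_mul, mul_one] at h2
        rw [← h2, one_smul, add_eq_left] at hc
        exact he hc
      obtain ⟨y, hy, z, hz, hyz⟩ := Submodule.mem_sup.1 hspan
      obtain ⟨μ, rfl⟩ := Submodule.mem_span_singleton.1 hy
      obtain ⟨l, rfl⟩ := Submodule.mem_span_singleton.1 hz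
      have hl : l ≠ 0 := fun h => hbe (by rw [← hyz, h, zero_smul, add_zero]; exact hy)
      obtain ⟨ψ, hψ, hψa⟩ := exists_dual_one hae
      obtain ⟨u, hu, hu'⟩ := hmove ((μ / l) • ψ) (by simp [hψ e (Submodule.mem_span_singleton_self e)])
      refine ⟨u, hu, conj_u_mem ρ he g g' u (c := l⁻¹) ?_⟩
      rw [← ha, ← hb, hu', ← hyz, LinearMap.smul_apply, hψa]
      match_scalars <;> (try simp only [smul_eq_mul, mul_one]) <;> field_simp

end Cfsg.Agent.FixSylow
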