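/-
The separation property on the isotropic points of an alternating or Hermitian form.
-/
import Cfsg.Agent.Lib.FixSylow.Linear
import Mathlib.LinearAlgebra.FiniteDimensional.Basic

set_option autoImplicit false

namespace Cfsg.Agent.FixSylow

open Module

variable {F : Type*} [Field F] {V : Type*} [AddCommGroup V] [Module F V]

/-- A non-degenerate ε-Hermitian form. -/
structure EForm (σ : F →+* F) (ε : F) (h : V → V → F) : Prop where
  add_left : ∀ x y z, h (x + y) z = h x z + h y z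
  smul_left : ∀ (c : F) x y, h (c • x) y = c * h x y
  symm : ∀ x y, h y x = ε * σ (h x y)
  invol : ∀ c, σ (σ c) = c
  eps : ε * ε = 1
  eps_fix : σ ε = ε
  nondeg : ∀ x, (∀ y, h x y = 0) → x = 0
  trace : ∀ w, ∃ c, ε * c + σ c = -h w w

/-- the isometries -/
def isoSub (h : V → V → F) : Subgroup (V ≃ₗ[F] V) where
  carrier := {g | ∀ x y, h (g x) (g y) = h x y}
  one_mem' := fun _ _ => rfl
  mul_mem' := fun {a b} ha hb x y => (ha (b x) (b y)).trans (hb x y)
  inv_mem' := fun {a} ha x y => by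
    have e := ha (a⁻¹ x) (a⁻¹ y)
    rw [show a (a⁻¹ x) = x from a.apply_symm_apply x, show a (a⁻¹ y) = y from a.apply_symm_apply y] at e
    exact e.symm

variable {σ : F →+* F} {ε : F} {h : V → V → F} (hh : EForm σ ε h)
include hh

theorem EForm.add_right (x y z : V) : h x (y + z) = h x y + h x z := by
  rw [hh.symm (y + z) x, hh.add_left, map_add, mul_add, ← hh.symm, ← hh.symm]

theorem EForm.smul_right (c : F) (x y : V) : h x (c • y) = σ c * h x y := by
  rw [hh.symm (c • y) x, hh.smul_left, map_mul, mul_left_comm, ← hh.symm]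

theorem EForm.zero_left (x : V) : h 0 x = 0 := by simpa using hh.smul_left 0 0 x

theorem EForm.zero_right (x : V) : h x 0 = 0 := by simpa using hh.smul_right 0 x 0

theorem EForm.sub_left (x y z : V) : h (x - y) z = h x z - h y z := by
  rw [sub_eq_add_neg, ← neg_one_smul F y, hh.add_left, hh.smul_left]; ring

theorem EForm.sub_right (x y z : V) : h x (y - z) = h x y - h x z := by
  rw [sub_eq_add_neg, ← neg_one_smul F z, hh.add_right, hh.smul_right, map_neg, map_one]; ring

theorem EForm.eq_zero_symm {x y : V} (hxy : h x y = 0) : h y x = 0 := by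
  rw [hh.symm x y, hxy, map_zero, mul_zero]

/-- the unipotent radical at e -/
def radAt (e : V) : Subgroup (V ≃ₗ[F] V) where
  carrier := {g | g e = e ∧ ∀ x, h (g x - x) e = 0 ∧ (h x e = 0 → ∃ c : F, g x - x = c • e)}
  one_mem' := ⟨rfl, fun x => ⟨by simp [hh.zero_left], fun _ => ⟨0, by simp⟩⟩⟩
  mul_mem' := by
    rintro a b ⟨ha, ha'⟩ ⟨hb, hb'⟩
    refine ⟨by rw [LinearEquiv.mul_apply, hb, ha], fun x => ?_⟩
    have e1 : (a * b) x - x = (a (b x) - b x) + (b x - x) := by rw [LinearEquiv.mul_apply]; abel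
    refine ⟨by rw [e1, hh.add_left, (ha' _).1, (hb' x).1, add_zero], fun hx => ?_⟩
    have hbx : h (b x) e = 0 := by
      have := (hb' x).1
      rw [hh.sub_left, hx, sub_zero] at this
      exact this
    obtain ⟨c, hc⟩ := (ha' _).2 hbx
    obtain ⟨d, hd⟩ := (hb' x).2 hx
    exact ⟨c + d, by rw [e1, hc, hd, add_smul]⟩
  inv_mem' := by
    rintro a ⟨ha, ha'⟩
    refine ⟨a.injective ((a.apply_symm_apply e).trans ha.symm), fun x => ?_⟩
    obtain ⟨y, rfl⟩ := a.surjective x
    rw [show a⁻¹ (a y) = y from a.symm_apply_apply y]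
    have h1 : h (y - a y) e = 0 := by
      have := (ha' y).1
      rw [hh.sub_left] at this ⊢
      linear_combination -this
    refine ⟨h1, fun hx => ?_⟩
    obtain ⟨c, hc⟩ := (ha' y).2 (by rw [hh.sub_left, hx, sub_zero] at h1; exact h1)
    exact ⟨-c, by rw [neg_smul, ← hc, neg_sub]⟩

/-- the transformations T(w, c) -/
theorem exists_T [Finite V] (p : ℕ) [Fact p.Prime] [CharP F p] {e w : V} {c : F} (hee : h e e = 0) (hwe : h w e = 0)
    (hc : ε * c + σ c = -h w w) :
    ∃ T : V ≃ₗ[F] V, T ∈ isoSub h ∧ T ^ p ^ 2 = 1 ∧ T ∈ radAt hh e ∧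
      ∀ x, T x = x + h x e • w + (-ε * h x w + c * h x e) • e := by
  have hew := hh.eq_zero_symm hwe
  let T : V →ₗ[F] V :=
    { toFun := fun x => x + h x e • w + (-ε * h x w + c * h x e) • e
      map_add' := fun x y => by rw [hh.add_left, hh.add_left]; module
      map_smul' := fun a x => by rw [hh.smul_left, hh.smul_left, RingHom.id_apply]; module }
  have hT : ∀ x, T x = x + h x e • w + (-ε * h x w + c * h x e) • e := fun x => rfl
  have hiso : ∀ x y, h (T x) (T y) = h x y := by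
    intro x y
    simp only [hT, hh.add_left, hh.add_right, hh.smul_left, hh.smul_right, hwe, hew, hee, map_add, map_mul, map_neg,
      hh.eps_fix]
    have e1 := hh.symm y e
    have e2 := hh.symm y w
    have e3 : σ (h y e) = ε * h e y := by rw [e1, ← mul_assoc, hh.eps, one_mul]
    have e4 : σ (h y w) = ε * h w y := by rw [e2, ← mul_assoc, hh.eps, one_mul]
    rw [e3, e4]
    linear_combination (h x e * h e y * ε) * hc + (-(h x e * h w y) - h x e * h e y * c) * hh.eps
  have hinj : Function.Injective T := (injective_iff_map_eq_zero T).2 fun x hx => hh.nondeg x fun y => by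
    rw [← hiso x y, hx, hh.zero_left]
  obtain ⟨m, hm⟩ : ∃ m : V ≃ₗ[F] V, ∀ x, m x = T x :=
    ⟨LinearEquiv.ofBijective T ⟨hinj, Finite.surjective_of_injective hinj⟩, fun x => rfl⟩
  have hrad : m ∈ radAt hh e := by
    refine ⟨by rw [hm, hT, hee, hew]; simp, fun x => ⟨?_, fun hx => ⟨-ε * h x w + c * h x e, ?_⟩⟩⟩
    · rw [hm, hT, hh.sub_left, hh.add_left, hh.add_left, hh.smul_left, hh.smul_left, hwe, hee]; ring
    · rw [hm, hT, hx, zero_smul, add_zero, add_sub_cancel_left]
  refine ⟨m, fun x y => by rw [hm, hm, hiso], ?_, hrad, fun x => by rw [hm, hT]⟩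
  refine unipotent_pow p
    ({ carrier := {x | h x e = 0}
       zero_mem' := hh.zero_left e
       add_mem' := fun {a b} ha hb => by
         show h (a + b) e = 0
         rw [hh.add_left, ha, hb, add_zero]
       smul_mem' := fun a x hx => by
         show h (a • x) e = 0
         rw [hh.smul_left, hx, mul_zero] } : Submodule F V)
    (Submodule.span F {e}) (fun x => (hrad.2 x).1) (fun x hx => ?_) fun x hx => ?_
  · obtain ⟨a, ha⟩ := (hrad.2 x).2 hx
    exact ha ▸ Submodule.smul_mem _ _ (Submodule.mem_span_singleton_self e)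
  · obtain ⟨a, rfl⟩ := Submodule.mem_span_singleton.1 hx
    rw [map_smul, hrad.1]

/-- The separation property, from the existence of enough transformations T(w, c). -/
theorem sep_core [Finite V] (p : ℕ) [Fact p.Prime] [CharP F p] {E : Type*} [Group E] (ρ : E →* (V ≃ₗ[F] V))
    (hρ : Function.Injective ρ) (hK : ∀ g, ρ g ∈ isoSub h) (sing : V → Prop)
    (hsing : ∀ x, sing x → h x x = 0) (hmap : ∀ g x, sing x → sing (ρ g x))
    (hsmul : ∀ (c : F) x, sing x → sing (c • x))
    (hT : ∀ e' w, sing e' → h w e' = 0 →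
      ∃ c A, ∀ x, ρ A x = x + h x e' • w + (-ε * h x w + c * h x e') • e')
    (hTo : ∀ e' w a, sing e' → h w e' = 0 → h a e' = 1 → sing a → sing (a + w) →
      ∃ A, ∀ x, ρ A x = x + h x e' • w + (-ε * h x w + ε * h a w * h x e') • e')
    {e f : V} (he : e ≠ 0) (hes : sing e) (hfs : sing f) (hfe : h f e = 1)
    (hbig : ∀ a b : V, ∃ w, w ≠ 0 ∧ h w a = 0 ∧ h w b = 0) :
    Sep p ((lineStab (F := F) he).comap ρ) ((radAt hh e).comap ρ) := by
  have hee := hsing e hes
  have hff := hsing f hfs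
  have hεε : ε ≠ 0 := fun h0 => by simpa [h0] using hh.eps
  have inrad : ∀ {e' w : V} {c : F} {A : E}, h e' e' = 0 → h w e' = 0 →
      (∀ x, ρ A x = x + h x e' • w + (-ε * h x w + c * h x e') • e') → ρ A ∈ radAt hh e' := by
    intro e' w c A h1 h2 hA
    refine ⟨by rw [hA, h1, hh.eq_zero_symm h2]; simp, fun x => ⟨?_, fun hx => ⟨-ε * h x w + c * h x e', ?_⟩⟩⟩
    · rw [hA, hh.sub_left, hh.add_left, hh.add_left, hh.smul_left, hh.smul_left, h2, h1]; ring
    · rw [hA, hx, zero_smul, add_zero, add_sub_cancel_left]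
  have mkT : ∀ {w : V}, h w e = 0 →
      ∃ c A, ρ A ∈ radAt hh e ∧ ∀ x, ρ A x = x + h x e • w + (-ε * h x w + c * h x e) • e := by
    intro w hw
    obtain ⟨c, A, hA⟩ := hT e w hes hw
    exact ⟨c, A, inrad hee hw hA, hA⟩
  have hef : h e f ≠ 0 := by rw [hh.symm f e, hfe, map_one, mul_one]; exact hεε
  obtain ⟨w₁, hw₁, hw₁e, hw₁f⟩ := hbig e f
  have hw₁s : ∀ a : F, a • e ≠ w₁ := fun a ha => by
    have h1 := hw₁f
    rw [← ha, hh.smul_left] at h1
    exact hw₁ (by rw [← ha, (mul_eq_zero.1 h1).resolve_right hef, zero_smul])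
  refine ⟨fun htop => ?_, ?_, ?_, ?_, ?_⟩
  · obtain ⟨c, A, hA⟩ := hT f w₁ hfs hw₁f
    obtain ⟨a, ha⟩ : A ∈ (lineStab (F := F) he).comap ρ := htop ▸ Subgroup.mem_top A
    rw [hA] at ha
    have h1 := congrArg (fun x => h x e) ha
    simp only [hh.add_left, hh.smul_left, hee, hw₁e, hfe, mul_zero, mul_one, zero_add, add_zero] at h1
    rw [h1, zero_smul, add_zero] at ha
    have h2 := congrArg (fun x => h x f) ha
    simp only [hh.add_left, hh.smul_left, hw₁f, mul_zero, add_zero] at h2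
    have h3 : a = 1 := mul_right_cancel₀ hef (by rw [← h2, one_mul])
    rw [h3, one_smul, add_eq_left, smul_eq_zero] at ha
    exact ha.elim hef hw₁
  · rintro x ⟨hx, -⟩
    exact ⟨1, by rw [hx, one_smul]⟩
  · rintro ⟨x, hx⟩
    refine ⟨2, Subtype.ext (hρ ?_)⟩
    show ρ (x ^ p ^ 2) = ρ 1
    rw [map_pow, map_one]
    refine unipotent_pow p
      ({ carrier := {x | h x e = 0}
         zero_mem' := hh.zero_left e
         add_mem' := fun {a b} ha hb => by
           show h (a + b) e = 0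
           rw [hh.add_left, ha, hb, add_zero]
         smul_mem' := fun a x hx => by
           show h (a • x) e = 0
           rw [hh.smul_left, hx, mul_zero] } : Submodule F V)
      (Submodule.span F {e}) (fun y => (hx.2 y).1) (fun y hy => ?_) fun y hy => ?_
    · obtain ⟨a, ha⟩ := (hx.2 y).2 hy
      exact ha ▸ Submodule.smul_mem _ _ (Submodule.mem_span_singleton_self e)
    · obtain ⟨a, rfl⟩ := Submodule.mem_span_singleton.1 hy
      rw [map_smul, hx.1]
  · rintro g ⟨c, hc⟩ x ⟨hx, hx'⟩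
    have hc0 : c ≠ 0 := fun h0 => he ((ρ g).injective (by rw [hc, h0, zero_smul, map_zero]))
    have hge : ∀ d, h (ρ g d) e = σ c⁻¹ * h d e := fun d => by
      conv_lhs => rw [show e = c⁻¹ • ρ g e by rw [hc, smul_smul, inv_mul_cancel₀ hc0, one_smul]]
      rw [hh.smul_right, hK g]
    have hform : ∀ y, ρ (g * x * g⁻¹) y - y = ρ g (ρ x ((ρ g).symm y) - (ρ g).symm y) := fun y => by
      rw [map_mul, map_mul, map_inv, map_sub, (ρ g).apply_symm_apply]
      rfl
    refine ⟨?_, fun y => ⟨by rw [hform, hge, (hx' _).1, mul_zero], fun hy => ?_⟩⟩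
    · rw [map_mul, map_mul, map_inv, LinearEquiv.mul_apply, LinearEquiv.mul_apply,
        show (ρ g)⁻¹ e = c⁻¹ • e from (ρ g).symm_apply_eq.2 (by
          rw [map_smul, hc, smul_smul, inv_mul_cancel₀ hc0, one_smul]),
        map_smul, hx, map_smul, hc, smul_smul, inv_mul_cancel₀ hc0, one_smul]
    · obtain ⟨d, hd⟩ := (hx' ((ρ g).symm y)).2 (by
        have := hge ((ρ g).symm y)
        rw [(ρ g).apply_symm_apply, hy] at this
        exact (mul_eq_zero.1 this.symm).resolve_left ((map_ne_zero σ).2 (inv_ne_zero hc0)))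
      exact ⟨d * c, by rw [hform, hd, map_smul, hc, smul_smul]⟩
  · intro g g' hgg
    simp only [conj_mem_lineStab] at hgg
    obtain ⟨a, ha⟩ : ∃ a, a = ρ g e := ⟨_, rfl⟩
    obtain ⟨b, hb⟩ : ∃ b, b = ρ g' e := ⟨_, rfl⟩
    rw [← ha, ← hb] at hgg
    have ha0 : a ≠ 0 := ha ▸ (LinearEquiv.map_ne_zero_iff _).2 he
    have hb0 : b ≠ 0 := hb ▸ (LinearEquiv.map_ne_zero_iff _).2 he
    have has : sing a := ha ▸ hmap g e hes
    have hbs : sing b := hb ▸ hmap g' e hes
    have haa : h a a = 0 := hsing a has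
    have hbb : h b b = 0 := hsing b hbs
    -- a vector outside the line of e, perpendicular to e
    have hperp : ∀ x, h x e = 0 → (∀ d : F, d • e ≠ x) → ∃ w, h w e = 0 ∧ h x w = 1 := by
      intro x hxe hx
      obtain ⟨w, hw, hxw⟩ : ∃ w, h w e = 0 ∧ h x w ≠ 0 := by
        by_contra! h0
        refine hx (h x f * (h e f)⁻¹) (sub_eq_zero.1 ?_)
        refine hh.nondeg _ fun y => ?_
        have hy : h (y - h y e • f) e = 0 := by rw [hh.sub_left, hh.smul_left, hfe, mul_one, sub_self]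
        have h1 := h0 _ hy
        rw [hh.sub_right, hh.smul_right] at h1
        have h2 := hh.eq_zero_symm hy
        rw [hh.sub_right, hh.smul_right] at h2
        rw [hh.sub_left, hh.smul_left]
        field_simp
        linear_combination h x f * h2 - h e f * h1
      exact ⟨(σ (h x w)⁻¹) • w, by rw [hh.smul_left, hw, mul_zero],
        by rw [hh.smul_right, hh.invol, inv_mul_cancel₀ hxw]⟩
    have fixI : ∀ x, ρ x ∈ radAt hh e → ∀ d : F, ∃ c : F, ρ x (d • e) = c • (d • e) := fun x hx d =>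
      ⟨1, by rw [map_smul, hx.1, one_smul]⟩
    -- an element moving an opposite point
    have moveIII : ∀ {w : V} {c : F} {A : E} {x : V}, h w e = 0 → (∀ d : F, d • e ≠ w) →
        (∀ y, ρ A y = y + h y e • w + (-ε * h y w + c * h y e) • e) → h x e ≠ 0 →
        ¬ ∃ l : F, ρ A x = l • x := by
      rintro w c A x hwe hw hA hxe ⟨l, hl⟩
      rw [hA] at hl
      have h1 := congrArg (fun y => h y e) hl
      simp only [hh.add_left, hh.smul_left, hwe, hee, mul_zero, add_zero] at h1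
      have h2 : l = 1 := mul_right_cancel₀ hxe (by rw [← h1, one_mul])
      rw [h2, one_smul, add_assoc, add_eq_left] at hl
      refine hw (-(h x e)⁻¹ * (-ε * h x w + c * h x e)) ?_
      rw [← smul_smul, eq_neg_of_add_eq_zero_right hl, neg_smul, smul_neg, neg_neg, smul_smul,
        inv_mul_cancel₀ hxe, one_smul]
    have moveII : ∀ {x : V}, h x e = 0 → (∀ d : F, d • e ≠ x) → ∀ {w : V}, h w e = 0 → h x w ≠ 0 →
        ∃ u ∈ (radAt hh e).comap ρ, ¬ ∃ l : F, ρ u x = l • x := by
      intro x hxe hx w hwe hxw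
      obtain ⟨c, A, hA1, hA⟩ := mkT (w := w) hwe
      refine ⟨A, hA1, fun ⟨l, hl⟩ => ?_⟩
      rw [hA, hxe, zero_smul, add_zero, mul_zero, add_zero] at hl
      rcases eq_or_ne l 1 with rfl | hl1
      · rw [one_smul, add_eq_left, smul_eq_zero] at hl
        exact hl.elim (mul_ne_zero (neg_ne_zero.2 hεε) hxw) he
      · refine hx ((l - 1)⁻¹ * (-ε * h x w)) ?_
        rw [← smul_smul, show (-ε * h x w) • e = (l - 1) • x by rw [sub_smul, one_smul, ← hl, add_sub_cancel_left],
          smul_smul, inv_mul_cancel₀ (sub_ne_zero.2 hl1), one_smul]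
    by_cases hI : ∃ d : F, d • e = a
    · obtain ⟨d, hd⟩ := hI
      have hfixa : ∀ x ∈ (radAt hh e).comap ρ, ∃ l : F, ρ x b = l • b := fun x hx =>
        (hgg x hx).1 (hd ▸ fixI x hx d)
      by_cases hI' : ∃ d : F, d • e = b
      · obtain ⟨d', hd'⟩ := hI'
        have hd0 : d' ≠ 0 := fun h0 => hb0 (by rw [← hd', h0, zero_smul])
        refine ⟨1, one_mem _, conj_u_mem ρ he g g' 1 (c := d / d') ?_⟩
        rw [← ha, ← hb, map_one, ← hd', smul_smul, div_mul_cancel₀ _ hd0, hd]
        rfl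
      push Not at hI'
      rcases eq_or_ne (h b e) 0 with hbe | hbe
      · obtain ⟨w, hwe, hbw⟩ := hperp b hbe hI'
        obtain ⟨u, hu, hu'⟩ := moveII hbe hI' hwe (hbw ▸ one_ne_zero)
        exact absurd (hfixa u hu) hu'
      · obtain ⟨c, A, hA1, hA⟩ := mkT (w := w₁) hw₁e
        exact absurd (hfixa A hA1) (moveIII hw₁e hw₁s hA hbe)
    push Not at hI
    have hI' : ∀ d : F, d • e ≠ b := fun d hd => by
      have hfixb : ∀ x ∈ (radAt hh e).comap ρ, ∃ l : F, ρ x a = l • a := fun x hx =>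
        (hgg x hx).2 (hd ▸ fixI x hx d)
      rcases eq_or_ne (h a e) 0 with hae | hae
      · obtain ⟨w, hwe, haw⟩ := hperp a hae hI
        obtain ⟨u, hu, hu'⟩ := moveII hae hI hwe (haw ▸ one_ne_zero)
        exact hu' (hfixb u hu)
      · obtain ⟨c, A, hA1, hA⟩ := mkT (w := w₁) hw₁e
        exact moveIII hw₁e hw₁s hA hae (hfixb A hA1)
    rcases eq_or_ne (h a e) 0 with hae | hae <;> rcases eq_or_ne (h b e) 0 with hbe | hbe
    · obtain ⟨w₀, hw₀e, haw₀⟩ := hperp a hae hI
      have key : ∀ w, h w e = 0 → h b w = h a w * h b w₀ := fun w hwe => by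
        obtain ⟨w', hw'⟩ : ∃ w', w' = w - σ (h a w) • w₀ := ⟨_, rfl⟩
        have h1 : h w' e = 0 := by rw [hw', hh.sub_left, hh.smul_left, hwe, hw₀e, mul_zero, sub_zero]
        have h2 : h a w' = 0 := by rw [hw', hh.sub_right, hh.smul_right, hh.invol, haw₀, mul_one, sub_self]
        by_contra hne
        have h3 : h b w' ≠ 0 := by
          rw [hw', hh.sub_right, hh.smul_right, hh.invol, sub_ne_zero]; exact hne
        obtain ⟨c, A, hA1, hA⟩ := mkT (w := w') h1
        obtain ⟨l, hl⟩ := (hgg A hA1).1 ⟨1, by rw [hA, hae, h2]; simp⟩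
        rw [hA, hbe, zero_smul, add_zero, mul_zero, add_zero] at hl
        rcases eq_or_ne l 1 with rfl | hl1
        · rw [one_smul, add_eq_left, smul_eq_zero] at hl
          exact hl.elim (mul_ne_zero (neg_ne_zero.2 hεε) h3) he
        · refine hI' ((l - 1)⁻¹ * (-ε * h b w')) ?_
          rw [← smul_smul, show (-ε * h b w') • e = (l - 1) • b by
            rw [sub_smul, one_smul, ← hl, add_sub_cancel_left], smul_smul, inv_mul_cancel₀ (sub_ne_zero.2 hl1),
            one_smul]
      obtain ⟨μ, hμ⟩ : ∃ μ : F, μ • e = b - h b w₀ • a := by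
        by_contra hno
        push Not at hno
        obtain ⟨w, hwe, hw⟩ := hperp (b - h b w₀ • a) (by rw [hh.sub_left, hh.smul_left, hbe, hae]; ring) hno
        rw [hh.sub_left, hh.smul_left, key w hwe] at hw
        exact one_ne_zero (hw.symm.trans (by ring))
      have hl0 : h b w₀ ≠ 0 := fun h0 => hI' μ (by rw [hμ, h0, zero_smul, sub_zero])
      obtain ⟨w, hw⟩ : ∃ w, w = σ (-ε * (μ / h b w₀)) • w₀ := ⟨_, rfl⟩
      have hwe : h w e = 0 := by rw [hw, hh.smul_left, hw₀e, mul_zero]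
      obtain ⟨c, A, hA1, hA⟩ := mkT (w := w) hwe
      refine ⟨A, hA1, conj_u_mem ρ he g g' A (c := (h b w₀)⁻¹) ?_⟩
      rw [← ha, ← hb, hA, hae, hw, hh.smul_right, hh.invol, haw₀]
      generalize h b w₀ = l at hμ hl0 ⊢
      rw [show b = μ • e + l • a by rw [hμ, sub_add_cancel]]
      match_scalars <;> (try simp only [smul_eq_mul, mul_one]) <;> field_simp
      all_goals first | ring1 | linear_combination μ * hh.eps | linear_combination -μ * hh.eps
    · obtain ⟨c, A, hA1, hA⟩ := mkT (w := a) hae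
      exact absurd ((hgg A hA1).1 ⟨1, by rw [hA, hae, haa]; simp⟩) (moveIII hae hI hA hbe)
    · obtain ⟨c, A, hA1, hA⟩ := mkT (w := b) hbe
      exact absurd ((hgg A hA1).2 ⟨1, by rw [hA, hbe, hbb]; simp⟩) (moveIII hbe hI' hA hae)
    · obtain ⟨a', ha'⟩ : ∃ a', a' = (h a e)⁻¹ • a := ⟨_, rfl⟩
      obtain ⟨b', hb'⟩ : ∃ b', b' = (h b e)⁻¹ • b := ⟨_, rfl⟩
      have ha1 : h a' e = 1 := by rw [ha', hh.smul_left, inv_mul_cancel₀ hae]
      have hb1 : h b' e = 1 := by rw [hb', hh.smul_left, inv_mul_cancel₀ hbe]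
      obtain ⟨w, hw⟩ : ∃ w, w = b' - a' := ⟨_, rfl⟩
      have hwe : h w e = 0 := by rw [hw, hh.sub_left, ha1, hb1, sub_self]
      obtain ⟨A, hA⟩ := hTo e w a' hes hwe ha1 (ha' ▸ hsmul _ a has)
        (by rw [hw, add_sub_cancel, hb']; exact hsmul _ b hbs)
      have hA1 := inrad hee hwe hA
      refine ⟨A, hA1, conj_u_mem ρ he g g' A (c := h a e / h b e) ?_⟩
      have h1 : ρ A a' = b' := by
        rw [hA, ha1, one_smul, mul_one, neg_mul, neg_add_cancel, zero_smul, add_zero, hw, add_sub_cancel]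
      rw [ha', map_smul, hb'] at h1
      rw [← ha, ← hb, div_eq_mul_inv, ← smul_smul, ← h1, smul_smul, mul_inv_cancel₀ hae, one_smul]

/-- The isotropic points of an alternating or Hermitian form. -/
theorem sep_form [Finite V] (p : ℕ) [Fact p.Prime] [CharP F p] {E : Type*} [Group E] (ρ : E →* (V ≃ₗ[F] V))
    (hρ : Function.Injective ρ) (hK : ∀ g, ρ g ∈ isoSub h)
    (hall : ∀ m ∈ isoSub h, m ^ p ^ 2 = 1 → m ∈ ρ.range) {e : V} (he : e ≠ 0) (hee : h e e = 0)
    (hbig : ∀ a b : V, ∃ w, w ≠ 0 ∧ h w a = 0 ∧ h w b = 0) :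
    Sep p ((lineStab (F := F) he).comap ρ) ((radAt hh e).comap ρ) := by
  have mkT : ∀ {e' w : V} {c : F}, h e' e' = 0 → h w e' = 0 → ε * c + σ c = -h w w →
      ∃ A, ∀ x, ρ A x = x + h x e' • w + (-ε * h x w + c * h x e') • e' := by
    intro e' w c h1 h2 h3
    obtain ⟨T, hT1, hT2, -, hT4⟩ := exists_T hh p h1 h2 h3
    obtain ⟨A, rfl⟩ := hall T hT1 hT2
    exact ⟨A, hT4⟩
  -- an isotropic partner
  obtain ⟨f, hfe, hff⟩ : ∃ f, h f e = 1 ∧ h f f = 0 := by
    obtain ⟨y, hy⟩ : ∃ y, h y e ≠ 0 := by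
      by_contra! h0
      exact he (hh.nondeg e fun y => hh.eq_zero_symm (h0 y))
    obtain ⟨f₀, hf₀⟩ : ∃ f₀, h f₀ e = 1 := ⟨(h y e)⁻¹ • y, by rw [hh.smul_left, inv_mul_cancel₀ hy]⟩
    obtain ⟨c, hc⟩ := hh.trace f₀
    refine ⟨f₀ + c • e, by rw [hh.add_left, hh.smul_left, hf₀, hee, mul_zero, add_zero], ?_⟩
    rw [hh.add_left, hh.add_right, hh.smul_left, hh.smul_right, hh.add_right, hh.smul_right, hee, hf₀,
      hh.symm f₀ e, hf₀, map_one]
    linear_combination hc
  refine sep_core hh p ρ hρ hK (fun x => h x x = 0) (fun x hx => hx)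
    (fun g x hx => (hK g x x).trans hx)
    (fun c x hx => by rw [hh.smul_left, hh.smul_right, hx, mul_zero, mul_zero])
    (fun e' w h1 h2 => ?_) (fun e' w a h1 h2 _ ha haw => mkT h1 h2 ?_) he hee hff hfe hbig
  · obtain ⟨c, hc⟩ := hh.trace w
    obtain ⟨A, hA⟩ := mkT h1 h2 hc
    exact ⟨c, A, hA⟩
  · rw [hh.add_left, hh.add_right, hh.add_right, ha] at haw
    rw [map_mul, hh.eps_fix, ← hh.symm, ← mul_assoc, hh.eps, one_mul]
    linear_combination haw

end Cfsg.Agent.FixSylow
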