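/-
The separation property for the classical families.
-/
import Cfsg.Prelude.Def_LieTypeChar
import Cfsg.Agent.Lib.FixSylow.Forms
import Cfsg.Agent.Lib.Orthogonal.POmega
import Cfsg.Agent.Lib.Classical.HermStd
import Mathlib.LinearAlgebra.FiniteDimensional.Lemmas

set_option autoImplicit false

namespace Cfsg.Agent.FixSylow

open Module Matrix Cfsg.Agent.Orth

variable {F : Type*} [Field F] (p : ℕ) [Fact p.Prime] [CharP F p]

omit [Fact p.Prime] [CharP F p] in
theorem exists_perp_two {V : Type*} [AddCommGroup V] [Module F V] [FiniteDimensional F V] (hn : 3 ≤ finrank F V)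
    (φ ψ : V →ₗ[F] F) : ∃ w, w ≠ 0 ∧ φ w = 0 ∧ ψ w = 0 := by
  obtain ⟨w, hw, hw0⟩ := (LinearMap.ker (φ.prod ψ)).ne_bot_iff.1 fun h => by
    have := LinearMap.finrank_le_finrank_of_injective (LinearMap.ker_eq_bot.1 h)
    rw [Module.finrank_prod, Module.finrank_self] at this
    omega
  rw [LinearMap.mem_ker, LinearMap.prod_apply, Prod.ext_iff] at hw
  exact ⟨w, hw0, hw.1, hw.2⟩

omit [Fact p.Prime] [CharP F p] in
theorem single_not_mem {ι : Type} [DecidableEq ι] {i j : ι} (h : i ≠ j) :
    (Pi.single j 1 : ι → F) ∉ Submodule.span F {(Pi.single i 1 : ι → F)} := by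
  intro hm
  obtain ⟨c, hc⟩ := Submodule.mem_span_singleton.1 hm
  have := congrFun hc j
  simp [h.symm] at this

omit [Fact p.Prime] [CharP F p] in
theorem single_ne {ι : Type} [DecidableEq ι] (i : ι) : (Pi.single i 1 : ι → F) ≠ 0 := fun h => by
  simpa using congrFun h i

theorem rigid_psl {G : Type*} [Group G] {n : ℕ} (hn : 2 ≤ n)
    (e : G ≃* Matrix.ProjectiveSpecialLinearGroup (Fin n) F) : Rigid p G := by
  have h01 : (⟨0, by omega⟩ : Fin n) ≠ ⟨1, by omega⟩ := fun h => Nat.zero_ne_one (congrArg Fin.val h)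
  have S := sep_sl (ι := Fin n) (F := F) p (single_ne _) (single_not_mem h01)
  exact Sep.rigid_quot (E := Matrix.SpecialLinearGroup (Fin n) F) S e

variable [Fintype F]

theorem rigid_psp {G : Type*} [Group G] {m : ℕ} (hm : 2 ≤ m) (e : G ≃* Cfsg.PSp m F) : Rigid p G := by
  let ι := Fin m ⊕ Fin m
  let ρ : Matrix.symplecticGroup (Fin m) F →* ((ι → F) ≃ₗ[F] (ι → F)) :=
    (glEquiv ι F).toMonoidHom.comp (Matrix.symplecticGroup (Fin m) F).subtype.toHomUnits
  let J : Matrix ι ι F := Matrix.J (Fin m) F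
  let h : (ι → F) → (ι → F) → F := fun x y => x ⬝ᵥ J *ᵥ y
  have hexp : ∀ x y, h x y = ∑ i, (x (Sum.inr i) * y (Sum.inl i) - x (Sum.inl i) * y (Sum.inr i)) := fun x y => by
    simp only [h, J, ι, Matrix.J, dotProduct, Fintype.sum_sum_type, Matrix.fromBlocks_mulVec, Sum.elim_inl,
      Sum.elim_inr, Matrix.zero_mulVec, zero_add, add_zero, Matrix.one_mulVec, Matrix.neg_mulVec,
      Pi.neg_apply, Function.comp_apply, Finset.sum_sub_distrib, mul_neg, Finset.sum_neg_distrib]
    ring
  have hh : EForm (RingHom.id F) (-1) h := by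
    refine ⟨fun x y z => add_dotProduct _ _ _, fun c x y => smul_dotProduct _ _ _, fun x y => ?_, fun c => rfl,
      by ring, by simp, fun x hx => ?_, fun w => ⟨0, ?_⟩⟩
    · rw [RingHom.id_apply, hexp, hexp, Finset.mul_sum]
      exact Finset.sum_congr rfl fun i _ => by ring
    · ext i
      rcases i with i | i
      · have := hx (Pi.single (Sum.inr i) 1)
        simpa [hexp, Pi.single_apply, ι] using this
      · have := hx (Pi.single (Sum.inl i) 1)
        simpa [hexp, Pi.single_apply, ι] using this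
    · rw [hexp, map_zero, mul_zero, add_zero, eq_comm, neg_eq_zero]
      exact Finset.sum_eq_zero fun i _ => by ring
  have hiso : ∀ A : GL ι F, glEquiv _ F A ∈ isoSub h ↔ (A : Matrix ι ι F) ∈ Matrix.symplecticGroup (Fin m) F := by
    intro A
    rw [← SymplecticGroup.transpose_mem_iff, SymplecticGroup.mem_iff, Matrix.transpose_transpose]
    have hcalc : ∀ x y, h (glEquiv _ F A x) (glEquiv _ F A y) =
        x ⬝ᵥ ((A : Matrix ι ι F)ᵀ * J * (A : Matrix ι ι F)) *ᵥ y := fun x y => by
      show _ ⬝ᵥ J *ᵥ _ = _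
      rw [glEquiv_apply, glEquiv_apply, ← Matrix.mulVec_mulVec, ← Matrix.mulVec_mulVec,
        Matrix.dotProduct_mulVec x, Matrix.vecMul_transpose]
    constructor
    · intro hA
      refine Matrix.ext fun i j => ?_
      have := hA (Pi.single i 1) (Pi.single j 1)
      rw [hcalc] at this
      simpa [h, J, single_dotProduct, Matrix.mulVec_single_one] using this
    · intro hA x y
      rw [hcalc]
      rw [show _ * J * _ = J from hA]
  refine (sep_form hh p ρ (fun a b e => Subtype.ext (congrArg Units.val ((glEquiv ι F).injective e)))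
    (fun g => (hiso _).2 g.2) (fun x hx _ => ?_) (single_ne (F := F) (Sum.inl ⟨0, by omega⟩ : ι)) ?_
    (fun a b => ?_)).rigid_quot e
  · obtain ⟨A, rfl⟩ := (glEquiv ι F).surjective x
    exact ⟨⟨A, (hiso A).1 hx⟩, congrArg (glEquiv ι F) (Units.ext rfl)⟩
  · rw [hexp]
    exact Finset.sum_eq_zero fun i _ => by simp
  · exact exists_perp_two (V := ι → F) (by rw [Module.finrank_fintype_fun_eq_card]; simp [ι]; omega)
      { toFun := fun w => h w a, map_add' := fun x y => hh.add_left x y a, map_smul' := fun c x => hh.smul_left c x a }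
      { toFun := fun w => h w b, map_add' := fun x y => hh.add_left x y b, map_smul' := fun c x => hh.smul_left c x b }

theorem rigid_psu {G : Type*} [Group G] {n q : ℕ} (hn : 3 ≤ n) (hq : Fintype.card F = q ^ 2)
    (e : G ≃* Cfsg.PSU n F q) : Rigid p G := by
  obtain ⟨σ, hσ, hne, hinv, -, -⟩ := HermStd.exists_sigma hq
  have hfix : ∀ z, σ z = z → ∃ c, c + σ c = z := fun z hz => Hermitian.exists_trace hne hinv hz
  have hh : EForm σ 1 (Cfsg.hermForm n F q) := by
    have hsym : ∀ x y, Cfsg.hermForm n F q y x = σ (Cfsg.hermForm n F q x y) := fun x y => by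
      simp only [Cfsg.hermForm]
      rw [map_sum]
      refine Finset.sum_congr rfl fun i _ => ?_
      rw [map_mul, ← hσ (y i), hinv, hσ]
      ring
    refine ⟨fun x y z => ?_, fun c x y => ?_, fun x y => by rw [one_mul]; exact hsym x y, hinv, one_mul 1, map_one σ,
      fun x hx => ?_, fun w => ?_⟩
    · simp [Cfsg.hermForm, add_mul, Finset.sum_add_distrib]
    · simp [Cfsg.hermForm, Finset.mul_sum, mul_assoc]
    · ext i
      have := hx (Pi.single i 1)
      simp only [Cfsg.hermForm] at this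
      rw [Finset.sum_eq_single i (fun j _ hji => by
        rw [Pi.single_eq_of_ne hji, ← hσ 0, map_zero, mul_zero]) (by simp)] at this
      simpa using this
    · obtain ⟨c, hc⟩ := hfix (-Cfsg.hermForm n F q w w) (by rw [map_neg, ← hsym])
      exact ⟨c, by rw [one_mul]; exact hc⟩
  obtain ⟨c, hc⟩ : ∃ c : F, c * σ c = -1 := by
    obtain ⟨c, hc⟩ := Hermitian.exists_norm hne hinv (x := (-1 : F)) (by rw [map_neg, map_one])
    exact ⟨c, hc⟩
  obtain ⟨v, hv⟩ : ∃ v : Fin n → F, v = Pi.single (⟨0, by omega⟩ : Fin n) 1 + c • Pi.single (⟨1, by omega⟩ : Fin n) 1 :=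
    ⟨_, rfl⟩
  have hvv : Cfsg.hermForm n F q v v = 0 := by
    have h1 : ∀ i : Fin n, Cfsg.hermForm n F q (Pi.single i 1) (Pi.single i 1) = 1 := fun i => by
      simp only [Cfsg.hermForm]
      rw [Finset.sum_eq_single i (fun j _ hji => by rw [Pi.single_eq_of_ne hji, zero_mul]) (by simp)]
      simp
    have h0 : ∀ i j : Fin n, i ≠ j → Cfsg.hermForm n F q (Pi.single i 1) (Pi.single j 1) = 0 := fun i j hij => by
      simp only [Cfsg.hermForm]
      refine Finset.sum_eq_zero fun k _ => ?_
      rcases eq_or_ne k i with rfl | hk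
      · rw [Pi.single_eq_of_ne hij, ← hσ 0, map_zero, mul_zero]
      · rw [Pi.single_eq_of_ne hk, zero_mul]
    rw [hv, hh.add_left, hh.add_right, hh.add_right, hh.smul_left, hh.smul_left, hh.smul_right, hh.smul_right,
      h1, h1, h0 _ _ (by simp), h0 _ _ (by simp)]
    linear_combination hc
  refine (sep_form hh p ((slRep (Fin n) F).comp (Cfsg.SU n F q).subtype)
    (slRep_injective.comp Subtype.val_injective) (fun g x y => g.2 x y) (fun m hm hk => ?_)
    (fun h0 => by simpa [hv, Pi.single_apply, Fin.ext_iff] using congrFun h0 (⟨0, by omega⟩ : Fin n)) hvv (fun a b => ?_)).rigid_quot e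
  · obtain ⟨A, rfl⟩ := exists_slRep p hk
    exact ⟨⟨A, fun x y => hm x y⟩, rfl⟩
  · exact exists_perp_two (V := Fin n → F) (by rw [Module.finrank_fintype_fun_eq_card]; simpa using hn)
      { toFun := fun w => Cfsg.hermForm n F q w a, map_add' := fun x y => hh.add_left x y a,
        map_smul' := fun c x => hh.smul_left c x a }
      { toFun := fun w => Cfsg.hermForm n F q w b, map_add' := fun x y => hh.add_left x y b,
        map_smul' := fun c x => hh.smul_left c x b }

theorem rigid_pomega {ι : Type} [Fintype ι] [DecidableEq ι] (Q : QuadraticForm F (ι → F))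
    (hQ : (QuadraticMap.polarBilin Q).Nondegenerate) (hn : 5 ≤ Fintype.card ι) {v : ι → F} (hv : v ≠ 0)
    (hQv : Q v = 0) : Rigid p (Cfsg.POmega F (⇑Q)) := by
  have hd : finrank F (ι → F) = Fintype.card ι := Module.finrank_fintype_fun_eq_card F
  have h42 : Fintype.card F ≠ 2 ∨ finrank F (ι → F) ≠ 4 := Or.inr (by omega)
  obtain ⟨χ, hχ⟩ := exists_spinor hQ h42
  obtain ⟨hker, -⟩ := spinor_spec hQ (by omega) h42 χ hχ
  have hh : EForm (RingHom.id F) 1 (QuadraticMap.polar (⇑Q)) :=
    ⟨b_add_left, b_smul_left, fun x y => by rw [RingHom.id_apply, one_mul, b_comm], fun c => rfl, one_mul 1, rfl,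
      fun x hx => eq_zero_of_b hQ hx, fun w => ⟨-Q w, by rw [RingHom.id_apply, b_self]; ring⟩⟩
  obtain ⟨f, hvf, hf⟩ := exists_partner hQ hv hQv
  obtain ⟨ρ, hρdef⟩ : ∃ ρ : Cfsg.Omega F (⇑Q) →* ((ι → F) ≃ₗ[F] (ι → F)),
      ρ = ((oGroup Q).subtype.comp (omg Q).subtype).comp (omegaEquiv Q).toMonoidHom := ⟨_, rfl⟩
  have mk : ∀ e' w : ι → F, Q e' = 0 → QuadraticMap.polar (⇑Q) w e' = 0 →
      ∃ A, IsSiegel (ρ A) Q e' w := fun e' w h1 h2 => by
    obtain ⟨T, hT, hT'⟩ := exists_siegel h1 (by rw [b_comm]; exact h2)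
    have : (⟨T, hT⟩ : oGroup Q) ∈ omg Q := hker.le
      (siegel_ker hQ h42 hχ (g := ⟨T, hT⟩) h1 (by rw [b_comm]; exact h2) hT')
    exact ⟨(omegaEquiv Q).symm ⟨_, this⟩, by simpa [hρdef] using hT'⟩
  refine (sep_core hh p ρ ?_ (fun g => ?_) (fun x => Q x = 0) (fun x hx => by rw [b_self, hx, mul_zero])
    (fun g x hx => ?_) (fun c x hx => by rw [q_smul, hx, mul_zero]) (fun e' w h1 h2 => ?_)
    (fun e' w a h1 h2 _ ha haw => ?_) hv hQv hf (by rw [b_comm]; exact hvf) (fun a b => ?_)).rigid_quot (MulEquiv.refl _)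
  · rw [hρdef]
    exact (Subtype.val_injective.comp Subtype.val_injective).comp (omegaEquiv Q).injective
  · intro x y
    rw [hρdef]
    exact b_map (omegaEquiv Q g).1.2 x y
  · rw [hρdef]
    exact ((omegaEquiv Q g).1.2 x).trans hx
  · obtain ⟨A, hA⟩ := mk e' w h1 h2
    exact ⟨-Q w, A, fun x => by rw [hA x]; match_scalars <;> ring⟩
  · obtain ⟨A, hA⟩ := mk e' w h1 h2
    refine ⟨A, fun x => ?_⟩
    rw [q_add, ha, zero_add] at haw
    rw [hA x, show Q w = -QuadraticMap.polar (⇑Q) a w by linear_combination haw]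
    match_scalars <;> ring
  · exact exists_perp_two (V := ι → F) (by omega)
      { toFun := fun w => QuadraticMap.polar (⇑Q) w a, map_add' := fun x y => b_add_left x y a,
        map_smul' := fun c x => b_smul_left c x a }
      { toFun := fun w => QuadraticMap.polar (⇑Q) w b, map_add' := fun x y => b_add_left x y b,
        map_smul' := fun c x => b_smul_left c x b }

end Cfsg.Agent.FixSylow
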