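/-
The separation property for the Suzuki groups, from the action on the ovoid.
-/
import Cfsg.Agent.Lib.FixSylow.Core
import Cfsg.Agent.Lib.Suzuki.Structure
import Cfsg.Agent.Lib.Suzuki.Minor

set_option autoImplicit false

namespace Cfsg.Agent.FixSylow

open Cfsg.Agent.Suzuki

theorem rigid_suzuki {G : Type*} [Group G] {F : Type*} [Field F] [Fintype F] {m : ℕ} (h : SzField F m)
    (e : G ≃* Cfsg.Lie.Sz F (2 ^ (m + 1))) : Rigid 2 G := by
  refine Sep.rigid_equiv (H := Suzuki.borel F m) (Q := rootGroup h) ⟨borel_ne_top h, ?_, isPGroup_rootGroup h,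
    fun b hb x hx => ?_, fun g g' hgg => ?_⟩ (e.trans (minorEquiv h).symm)
  · rintro _ ⟨a, b, rfl⟩
    exact T_mem_borel h a b
  · rw [← normalizer_rootGroup h] at hb
    exact (Subgroup.mem_normalizer_iff.1 hb x).1 hx
  have hfix : ∀ (g : Cfsg.Sz F m) (t : Cfsg.Sz F m), g⁻¹ * t * g ∈ Suzuki.borel F m ↔
      t • g • Cfsg.suzukiPointInfinity F = g • Cfsg.suzukiPointInfinity F := fun g t => by
    rw [MulAction.mem_stabilizer_iff, mul_smul, mul_smul, inv_smul_eq_iff]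
  suffices ∃ u ∈ rootGroup h, u • g • Cfsg.suzukiPointInfinity F = g' • Cfsg.suzukiPointInfinity F by
    obtain ⟨u, hu, hug⟩ := this
    refine ⟨u, hu, ?_⟩
    rw [MulAction.mem_stabilizer_iff, mul_smul, mul_smul, hug, inv_smul_smul]
  have hne : ∀ x y : F, T h 1 0 • pt m x y ≠ pt m x y := fun x y he => by
    rw [T_smul_pt] at he
    simpa using (pt_inj he).1
  have hinf := T_smul_pinf h (1 : F) 0
  rcases mem_ovoid.mp (smul_mem_ovoid g (pinf_mem (F := F) (m := m))) with hg | ⟨x, y, hg⟩ <;>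
    rcases mem_ovoid.mp (smul_mem_ovoid g' (pinf_mem (F := F) (m := m))) with hg' | ⟨x', y', hg'⟩
  · exact ⟨1, one_mem _, by rw [one_smul, hg, hg']⟩
  · have := hgg (T h 1 0) ⟨1, 0, rfl⟩
    rw [hfix, hfix, hg, hg'] at this
    exact absurd (this.1 hinf) (hne x' y')
  · have := hgg (T h 1 0) ⟨1, 0, rfl⟩
    rw [hfix, hfix, hg, hg'] at this
    exact absurd (this.2 hinf) (hne x y)
  · refine ⟨T h x' y' * (T h x y)⁻¹, mul_mem ⟨x', y', rfl⟩ (inv_mem ⟨x, y, rfl⟩), ?_⟩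
    rw [hg, hg', mul_smul, show (T h x y)⁻¹ • pt m x y = pt m (0 : F) 0 by rw [inv_smul_eq_iff, T_smul_pt_zero],
      T_smul_pt_zero]

end Cfsg.Agent.FixSylow
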